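import Mathlib

/-!
# A homogeneous polynomial avoiding finitely many homogeneous primes
-/

set_option autoImplicit false
noncomputable section

open MvPolynomial

namespace IntPtLib

set_option linter.all false

variable {σ : Type*} {R : Type*} [CommRing R] [IsDomain R]

/-- The ring hom `X i ↦ a i · T`. -/
def cone (a : σ → R) : MvPolynomial σ ℤ →+* Polynomial R :=
  eval₂Hom (Int.castRingHom _) fun i => Polynomial.C (a i) * Polynomial.X

theorem cone_monomial (a : σ → R) (m : σ →₀ ℕ) (z : ℤ) :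
    cone a (monomial m z) = Polynomial.C ((z : R) * m.prod fun i n => a i ^ n) * Polynomial.X ^ m.degree := by
  rw [cone, eval₂Hom_monomial]
  simp only [eq_intCast, mul_pow, map_mul, map_intCast]
  rw [Finsupp.prod, Finset.prod_mul_distrib, Finset.prod_pow_eq_pow_sum, Finsupp.prod, map_prod]
  simp only [map_pow]
  rw [Finsupp.degree_apply, mul_assoc]

theorem coeff_cone (a : σ → R) (F : MvPolynomial σ ℤ) (d : ℕ) :
    (cone a F).coeff d = aeval a (homogeneousComponent d F) := by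
  induction F using MvPolynomial.induction_on' with
  | monomial m z =>
    rw [cone_monomial, Polynomial.coeff_C_mul_X_pow]
    by_cases h : d = m.degree
    · subst h
      rw [if_pos rfl, homogeneousComponent_of_mem (isHomogeneous_monomial z rfl), if_pos rfl]
      simp [aeval_monomial]
    · rw [if_neg h, homogeneousComponent_of_mem (isHomogeneous_monomial z rfl), if_neg h, map_zero]
  | add p q hp hq => simp [hp, hq]

theorem mem_ker_cone_iff (a : σ → R) (F : MvPolynomial σ ℤ) :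
    F ∈ RingHom.ker (cone a) ↔ ∀ d, aeval a (homogeneousComponent d F) = 0 := by
  rw [RingHom.mem_ker, Polynomial.ext_iff]
  simp only [coeff_cone, Polynomial.coeff_zero]

theorem mem_ker_cone_of_homogeneous (a : σ → R) {F : MvPolynomial σ ℤ} {d : ℕ} (hF : F.IsHomogeneous d) :
    F ∈ RingHom.ker (cone a) ↔ aeval a F = 0 := by
  rw [mem_ker_cone_iff]
  refine ⟨fun h => ?_, fun h e => ?_⟩
  · have := h d
    rwa [homogeneousComponent_of_mem hF, if_pos rfl] at this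
  · rw [homogeneousComponent_of_mem hF]
    split_ifs
    · exact h
    · exact map_zero _

theorem exists_avoid (𝒬 : Finset (Ideal (MvPolynomial σ ℤ))) (hp : ∀ Q ∈ 𝒬, Q.IsPrime)
    (hc : ∀ Q ∈ 𝒬, ∀ F ∈ Q, ∀ d, homogeneousComponent d F ∈ Q) (hX : ∀ Q ∈ 𝒬, ∃ i, X i ∉ Q) :
    ∃ (d : ℕ) (F : MvPolynomial σ ℤ), 0 < d ∧ F.IsHomogeneous d ∧ ∀ Q ∈ 𝒬, F ∉ Q := by
  classical
  let M := 𝒬.filter fun P => ∀ Q ∈ 𝒬, P ≤ Q → Q = P
  have hM : ∀ Q ∈ 𝒬, ∃ P ∈ M, Q ≤ P := fun Q hQ => by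
    obtain ⟨P, hP1, hP2⟩ := 𝒬.exists_le_maximal hQ
    exact ⟨P, Finset.mem_filter.2 ⟨hP2.1, fun Q' hQ' h => le_antisymm (hP2.2 hQ' h) h⟩, hP1⟩
  have hg : ∀ P ∈ M, ∀ Q ∈ M, Q ≠ P → ∃ (e : ℕ) (g : MvPolynomial σ ℤ), g.IsHomogeneous e ∧ g ∈ Q ∧ g ∉ P := by
    intro P hP Q hQ hne
    obtain ⟨hP1, -⟩ := Finset.mem_filter.1 hP
    obtain ⟨hQ1, hQ2⟩ := Finset.mem_filter.1 hQ
    have : ¬ Q ≤ P := fun h => hne (hQ2 P hP1 h).symm
    obtain ⟨G, hGQ, hGP⟩ := Set.not_subset.1 this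
    by_contra! hall
    refine hGP ?_
    rw [SetLike.mem_coe, ← sum_homogeneousComponent G]
    exact P.sum_mem fun e _ => hall e _ (homogeneousComponent_isHomogeneous e G) (hc Q hQ1 G hGQ e)
  have hu : ∀ P ∈ M, ∃ (e : ℕ) (u : MvPolynomial σ ℤ), 0 < e ∧ u.IsHomogeneous e ∧ u ∉ P ∧
      ∀ Q ∈ M, Q ≠ P → u ∈ Q := by
    intro P hP
    obtain ⟨i, hi⟩ := hX P (Finset.mem_filter.1 hP).1
    choose e g he hgQ hgP using fun Q : (M.erase P) => hg P hP Q.1 (Finset.mem_of_mem_erase Q.2) (Finset.ne_of_mem_erase Q.2)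
    refine ⟨1 + ∑ Q, e Q, X i * ∏ Q, g Q, by omega, (isHomogeneous_X ℤ i).mul (IsHomogeneous.prod _ _ _ fun Q _ => he Q),
      fun h => ?_, fun Q hQ hne => Ideal.mul_mem_left _ _ ?_⟩
    · rcases (hp P (Finset.mem_filter.1 hP).1).mem_or_mem h with h | h
      · exact hi h
      · haveI := hp P (Finset.mem_filter.1 hP).1
        obtain ⟨Q, -, hQ⟩ := Ideal.IsPrime.prod_mem_iff.1 h
        exact hgP Q hQ
    · exact Ideal.prod_mem (I := Q) (f := g) (Finset.mem_univ (⟨Q, Finset.mem_erase.2 ⟨hne, hQ⟩⟩ : M.erase P))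
        (hgQ ⟨Q, Finset.mem_erase.2 ⟨hne, hQ⟩⟩)
  choose e u he hue huP huQ using fun P : M => hu P.1 P.2
  let D := ∏ P, e P
  have hD : 0 < D := Finset.prod_pos fun P _ => he P
  have hdiv : ∀ P, e P * (D / e P) = D := fun P => Nat.mul_div_cancel' (Finset.dvd_prod_of_mem _ (Finset.mem_univ P))
  refine ⟨D, ∑ P, u P ^ (D / e P), hD, IsHomogeneous.sum _ _ _ fun P _ => (by
    have h := (hue P).pow (D / e P)
    rwa [hdiv P] at h),
    fun Q hQ h => ?_⟩
  obtain ⟨P, hP, hQP⟩ := hM Q hQ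
  have hPp := hp P (Finset.mem_filter.1 hP).1
  have hF := hQP h
  rw [← Finset.add_sum_erase _ _ (Finset.mem_univ (⟨P, hP⟩ : M))] at hF
  refine huP ⟨P, hP⟩ (hPp.mem_of_pow_mem (D / e ⟨P, hP⟩) ?_)
  refine (Submodule.add_mem_iff_left P (P.sum_mem fun P' hP' => ?_)).1 hF
  refine P.pow_mem_of_mem (huQ P' P hP fun h' => Finset.ne_of_mem_erase hP' (Subtype.ext h'.symm)) _ ?_
  refine Nat.div_pos (Nat.le_of_dvd hD (Finset.dvd_prod_of_mem _ (Finset.mem_univ P'))) (he P')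

end IntPtLib
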