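import Groth.Agent.IntPtLib.Avoid
import Groth.Agent.AmpleThLib.FiniteSet

/-!
# A point with values in an integral extension of a field lies in an affine locus of an ample module
-/

set_option autoImplicit false
set_option linter.all false
universe u

open CategoryTheory CategoryTheory.Limits AlgebraicGeometry TopologicalSpace Opposite MvPolynomial
open AmpleLib AmpleThLib
open TwistLib (genSet)

noncomputable section

namespace IntPtLib

section sections

variable {X : Scheme.{u}} {M : X.Modules} (hM : PicF.IsInvertible M) {r : ℕ} (s : Fin r → Γ(M, ⊤))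

/-- `τ` is the value of the form `F` at the sections `s`. -/
def IsValue (d : ℕ) (F : MvPolynomial (Fin r) ℤ) (τ : Γ(CohB1.tensorPow M d, ⊤)) : Prop :=
  ∀ (U : X.Opens) (e : Γ(M, U)), GenOn M e → ∀ c : Fin r → Γ(X, U), (∀ i, c i • e = res M le_top (s i)) →
    aeval c F • pS e d = res (CohB1.tensorPow M d) le_top τ

theorem exists_value_monomial (m : Fin r →₀ ℕ) : ∃ τ, IsValue s m.degree (monomial m 1) τ := by
  induction m using Finsupp.induction with
  | zero =>
    rw [map_zero]
    refine ⟨(1 : Γ(X, ⊤)), fun U e he c hc => ?_⟩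
    rw [monomial_zero', map_one, map_one, one_smul]
    exact (map_one (X.presheaf.map (homOfLE (le_top : U ≤ ⊤)).op).hom).symm
  | single_add i n m hi hn ih =>
    clear hn
    induction n with
    | zero => rw [Finsupp.single_zero, zero_add]; exact ih
    | succ n ihn =>
      have e1 : Finsupp.single i (n + 1) + m = Finsupp.single i 1 + (Finsupp.single i n + m) := by
        rw [← add_assoc, ← Finsupp.single_add, add_comm 1 n]
      rw [e1]
      generalize hm : Finsupp.single i n + m = m' at ihn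
      obtain ⟨τ, hτ⟩ := ihn
      have e2 : (Finsupp.single i 1 + m').degree = m'.degree + 1 := by
        rw [map_add, Finsupp.degree_single, add_comm]
      rw [e2]
      refine ⟨shT τ (s i), fun U e he c hc => ?_⟩
      refine Eq.trans ?_ (shT_res (le_top : U ≤ ⊤) τ (s i)).symm
      rw [← hτ U e he c hc, ← hc i]
      refine Eq.trans ?_ (shT_smul _ _ _ _).symm
      rw [monomial_single_add, map_mul, pow_one, aeval_X, mul_comm (c i)]
      rfl

theorem IsValue.zsmul {d : ℕ} {F : MvPolynomial (Fin r) ℤ} {τ} (h : IsValue s d F τ) (z : ℤ) :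
    IsValue s d (z • F) (z • τ) := fun U e he c hc => by
  rw [map_zsmul, smul_assoc, h U e he c hc]
  exact (map_zsmul ((CohB1.tensorPow M d).presheaf.map (homOfLE (le_top : U ≤ ⊤)).op).hom z τ).symm

theorem isValue_sum {d : ℕ} {α : Type*} (t : Finset α) {F : α → MvPolynomial (Fin r) ℤ} {τ : α → Γ(CohB1.tensorPow M d, ⊤)}
    (h : ∀ a ∈ t, IsValue s d (F a) (τ a)) : IsValue s d (∑ a ∈ t, F a) (∑ a ∈ t, τ a) := fun U e he c hc => by
  rw [map_sum, Finset.sum_smul, res_sum]
  exact Finset.sum_congr rfl fun a ha => h a ha U e he c hc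

/-- The coefficients with respect to a generator detect the locus of a value. -/
theorem IsValue.genSet_inf {d : ℕ} {F : MvPolynomial (Fin r) ℤ} {τ} (h : IsValue s d F τ)
    {U : X.Opens} {e : Γ(M, U)} (he : GenOn M e) {c : Fin r → Γ(X, U)}
    (hc : ∀ i, c i • e = res M le_top (s i)) :
    genSet (tensorPow_isInvertible hM d) τ ⊓ U = X.basicOpen (aeval c F) :=
  mem_genSet_coeff _ τ (pS_genOn he d) (h U e he c hc)

theorem IsValue.le_iSup {d : ℕ} {F : MvPolynomial (Fin r) ℤ} {τ} (h : IsValue s d F τ)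
    (hF : F.IsHomogeneous d) (hd : 0 < d) {x : X} (hx : x ∈ genSet (tensorPow_isInvertible hM d) τ) :
    ∃ i, x ∈ genSet hM (s i) := by
  by_contra hne
  push Not at hne
  obtain ⟨U, e, hxU, he⟩ := TwistLib.exists_genOn hM x
  choose c hc using fun i => exists_coeff (s i) he
  have h1 := (h.genSet_inf hM s he hc).le ⟨hx, hxU⟩
  rw [Scheme.mem_basicOpen X _ x hxU] at h1
  let φ : Γ(X, U) →+* IsLocalRing.ResidueField (X.presheaf.stalk x) :=
    (IsLocalRing.residue _).comp (X.presheaf.germ U x hxU).hom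
  have h2 : φ (aeval c F) ≠ 0 := fun h0 => ((IsLocalRing.residue_eq_zero_iff _).1 h0) h1
  refine h2 ?_
  have h3 : ∀ i, φ (c i) = 0 := fun i => (IsLocalRing.residue_eq_zero_iff _).2 fun hu => by
    have := (mem_genSet_coeff hM (s i) he (hc i)).ge ((Scheme.mem_basicOpen X _ x hxU).2 hu)
    exact hne i this.1
  rw [show φ (aeval c F) = φ.comp (aeval c).toRingHom F from rfl]
  have h4 : φ.comp (aeval c).toRingHom = eval₂Hom (Int.castRingHom _) 0 :=
    MvPolynomial.ringHom_ext (fun z => by simp) fun i => by simpa using h3 i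
  rw [h4, eval₂Hom_zero_apply]
  have : constantCoeff F = 0 := by
    rw [constantCoeff_eq]
    exact hF.coeff_eq_zero (by simpa using hd.ne)
  rw [this, map_zero]

theorem exists_value {d : ℕ} {F : MvPolynomial (Fin r) ℤ} (hF : F.IsHomogeneous d) (hd : 0 < d)
    (haff : ∀ i, IsAffineOpen (genSet hM (s i))) :
    ∃ τ : Γ(CohB1.tensorPow M d, ⊤), IsValue s d F τ ∧
      IsAffineOpen (genSet (tensorPow_isInvertible hM d) τ) := by
  classical
  have hdeg : ∀ m : F.support, m.1.degree = d := fun m => by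
    rw [Finsupp.degree_eq_weight_one]; exact hF (mem_support_iff.1 m.2)
  have hterm : ∀ m : F.support, ∃ τ : Γ(CohB1.tensorPow M d, ⊤), IsValue s d (monomial m.1 (coeff m.1 F)) τ ∧
      IsAffineOpen (genSet (tensorPow_isInvertible hM d) τ) := fun m => by
    obtain ⟨τ₀, hτ₀⟩ : ∃ τ, IsValue s d (monomial m.1 1) τ := hdeg m ▸ exists_value_monomial s m.1
    have hv : IsValue s d (monomial m.1 (coeff m.1 F)) (coeff m.1 F • τ₀) := by
      have := hτ₀.zsmul s (coeff m.1 F)
      rwa [show coeff m.1 F • monomial m.1 (1 : ℤ) = monomial m.1 (coeff m.1 F) by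
        rw [smul_monomial, smul_eq_mul, mul_one]] at this
    refine ⟨_, hv, ?_⟩
    obtain ⟨i, hi⟩ : ∃ i, m.1 i ≠ 0 := by
      by_contra! h0
      have : m.1 = 0 := Finsupp.ext h0
      have := hdeg m
      rw [‹m.1 = 0›, map_zero] at this
      omega
    have hle : genSet (tensorPow_isInvertible hM d) (coeff m.1 F • τ₀) ≤ genSet hM (s i) := by
      intro x hx
      obtain ⟨U, e, hxU, he⟩ := TwistLib.exists_genOn hM x
      choose c hc using fun i => exists_coeff (s i) he
      have h1 := (hv.genSet_inf hM s he hc).le ⟨hx, hxU⟩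
      obtain ⟨G, hG⟩ : (MvPolynomial.X i : MvPolynomial (Fin r) ℤ) ∣ monomial m.1 (coeff m.1 F) := X_dvd_monomial.2 (Or.inr hi)
      rw [hG, map_mul, aeval_X, Scheme.basicOpen_mul] at h1
      exact ((mem_genSet_coeff hM (s i) he (hc i)).ge h1.1).1
    obtain hg := TwistLib.genSet_genOn hM (s i)
    choose c hc using fun j => exists_coeff (s j) hg
    rw [← inf_eq_left.2 hle, hv.genSet_inf hM s hg hc]
    exact (haff i).basicOpen _
  choose τ hτ haffτ using hterm
  refine ⟨∑ m, τ m, ?_, isAffineOpen_genSet_sum _ fun m _ => haffτ m⟩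
  have := isValue_sum s Finset.univ (τ := τ) fun m _ => hτ m
  rwa [show ∑ m : F.support, monomial m.1 (coeff m.1 F) = F by
    rw [Finset.univ_eq_attach, Finset.sum_attach F.support fun m => monomial m (coeff m F)]
    exact F.as_sum.symm] at this

end sections

theorem map_aeval' {R S : Type*} [CommRing R] [CommRing S] {iR : Algebra ℤ R} {iS : Algebra ℤ S} {ι : Type*} (φ : R →+* S) (v : ι → R)
    (F : MvPolynomial ι ℤ) : φ (aeval v F) = aeval (fun i => φ (v i)) F := by
  have : φ.comp (aeval v).toRingHom = (aeval fun i => φ (v i)).toRingHom :=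
    MvPolynomial.ringHom_ext' (RingHom.ext_int _ _) fun i => by simp
  exact RingHom.congr_fun this F

theorem inv_integral {k R : Type u} [Field k] [CommRing R] [Algebra k R] {a b : R} (hab : a * b = 1)
    (ha : IsIntegral k a) : IsIntegral k b := by
  let B := Algebra.adjoin k {a}
  haveI : Module.Finite k B := Module.Finite.of_fg ha.fg_adjoin_singleton
  have hinj : Function.Injective (LinearMap.mulLeft k (⟨a, Algebra.subset_adjoin rfl⟩ : B)) := by
    intro x y hxy
    have h' : a * x.1 = a * y.1 := congrArg Subtype.val hxy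
    exact Subtype.ext (calc x.1 = b * (a * x.1) := by rw [← mul_assoc, mul_comm b a, hab, one_mul]
      _ = b * (a * y.1) := by rw [h']
      _ = y.1 := by rw [← mul_assoc, mul_comm b a, hab, one_mul])
  obtain ⟨z, hz⟩ := (LinearMap.injective_iff_surjective.1 hinj) 1
  have h' : a * z.1 = 1 := congrArg Subtype.val hz
  have : b = z.1 := by
    calc b = b * (a * z.1) := by rw [h', mul_one]
      _ = z.1 := by rw [← mul_assoc, mul_comm b a, hab, one_mul]
  rw [this]
  exact IsIntegral.of_mem_of_fg B ha.fg_adjoin_singleton _ z.2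

theorem away_integral {k A : Type u} [Field k] [CommRing A] [Algebra k A] [Algebra.IsIntegral k A] (f : A) :
    Algebra.IsIntegral k (Localization.Away f) := by
  refine ⟨fun x => ?_⟩
  obtain ⟨⟨a, t⟩, h⟩ := IsLocalization.surj (Submonoid.powers f) x
  obtain ⟨v, hv⟩ := IsLocalization.map_units (Localization.Away f) t
  have hint : ∀ y : A, IsIntegral k (algebraMap A (Localization.Away f) y) := fun y =>
    (Algebra.IsIntegral.isIntegral (R := k) y).map (IsScalarTower.toAlgHom k A _)
  have hxv : x = algebraMap A (Localization.Away f) a * (↑v⁻¹ : Localization.Away f) := by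
    rw [Units.eq_mul_inv_iff_mul_eq, hv]; exact h
  rw [hxv]
  refine (hint a).mul (inv_integral (a := (v : Localization.Away f)) v.mul_inv ?_)
  rw [hv]; exact hint _

/-- The primes cut out by finitely many elements of an integral extension of a field are finite in number. -/
theorem finite_kernels {k R : Type u} [Field k] [CommRing R] [Algebra k R] [Algebra.IsIntegral k R]
    {r : ℕ} (b : Fin r → R) :
    (Set.range fun q : PrimeSpectrum R => RingHom.ker (cone fun i => Ideal.Quotient.mk q.asIdeal (b i))).Finite := by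
  let B := Algebra.adjoin k (Set.range b)
  haveI : Module.Finite k B := Module.Finite.of_fg
    (fg_adjoin_of_finite (Set.finite_range b) fun x _ => Algebra.IsIntegral.isIntegral x)
  haveI : IsArtinianRing B := .of_finite k B
  let b' : Fin r → B := fun i => ⟨b i, Algebra.subset_adjoin ⟨i, rfl⟩⟩
  refine (Set.finite_range fun q : PrimeSpectrum B =>
    RingHom.ker (cone fun i => Ideal.Quotient.mk q.asIdeal (b' i))).subset ?_
  rintro _ ⟨q, rfl⟩
  refine ⟨q.comap B.val.toRingHom, ?_⟩
  ext F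
  simp only [mem_ker_cone_iff]
  refine forall_congr' fun d => ?_
  rw [← map_aeval' (iR := Ring.toIntAlgebra B), ← map_aeval' (iR := Ring.toIntAlgebra R),
    Ideal.Quotient.eq_zero_iff_mem, Ideal.Quotient.eq_zero_iff_mem, PrimeSpectrum.comap_asIdeal, Ideal.mem_comap,
    map_aeval' (iS := Ring.toIntAlgebra R)]
  rfl

theorem main {X : Scheme.{u}} (L : X.Modules) (hL : CohB1.IsAmple L)
    (k A : Type u) [Field k] [CommRing A] [Algebra k A] [Algebra.IsIntegral k A]
    (W : X.Opens) (g : Spec (CommRingCat.of A) ⟶ X) (hg : Set.range g.base ⊆ (W : Set X)) :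
    ∃ (n : ℕ) (s : Coh.structureModule X ⟶ CohB1.tensorPow L (n + 1)),
      IsAffineOpen (CohB1.genLocus _ s) ∧ CohB1.genLocus _ s ≤ W ∧
        Set.range g.base ⊆ (CohB1.genLocus _ s : Set X) := by
  classical
  haveI : CompactSpace X := hL.2.1
  haveI := quasiSeparatedSpace_of_isAmple hL
  have hpt : ∀ p : PrimeSpectrum A, ∃ (f : A) (n : ℕ) (V : X.Opens), 0 < n ∧ IsLocus hL.1 n V ∧
      IsAffineOpen V ∧ V ≤ W ∧ p ∈ PrimeSpectrum.basicOpen f ∧
      (PrimeSpectrum.basicOpen f : Set (PrimeSpectrum A)) ⊆ g.base ⁻¹' (V : Set X) := fun p => by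
    obtain ⟨n, V, hn, hV, hpV, haff, hle⟩ := exists_locus_le hL.1 hL (hg ⟨p, rfl⟩)
    obtain ⟨_, ⟨f, rfl⟩, hpf, hf⟩ := PrimeSpectrum.isTopologicalBasis_basic_opens.exists_subset_of_mem_open
      (show p ∈ g.base ⁻¹' (V : Set X) from hpV) (V.2.preimage g.continuous)
    exact ⟨f, n, V, hn, hV, haff, hle, hpf, hf⟩
  choose f n V hn hV haff hVW hpf hfV using hpt
  obtain ⟨T, hT⟩ := isCompact_univ.elim_finite_subcover (fun p => (PrimeSpectrum.basicOpen (f p) : Set (PrimeSpectrum A)))
    (fun p => (PrimeSpectrum.basicOpen (f p)).2) fun p _ => Set.mem_iUnion.2 ⟨p, hpf p⟩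
  let N := ∏ p ∈ T, n p
  have hN : 0 < N := Finset.prod_pos fun p _ => hn p
  let P : Fin T.card → PrimeSpectrum A := fun i => (T.equivFin.symm i).1
  have hloc : ∀ i, IsLocus hL.1 N (V (P i)) := fun i => by
    obtain ⟨q, hq⟩ : n (P i) ∣ N := Finset.dvd_prod_of_mem _ (T.equivFin.symm i).2
    rw [hq]
    refine (hV _).mul_right (Nat.pos_of_ne_zero fun h => ?_)
    rw [h, mul_zero] at hq
    omega
  choose σ hσ using hloc
  have hM := tensorPow_isInvertible hL.1 N
  choose c hc using fun i j => exists_coeff (σ j) (TwistLib.genSet_genOn hM (σ i))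
  let ι' : ∀ i, Spec (CommRingCat.of (Localization.Away (f (P i)))) ⟶ Spec (CommRingCat.of A) :=
    fun i => Spec.map (CommRingCat.ofHom (algebraMap A _))
  have hι : ∀ i, Set.range (ι' i).base = (PrimeSpectrum.basicOpen (f (P i)) : Set (PrimeSpectrum A)) :=
    fun i => PrimeSpectrum.localization_away_comap_range _ (f (P i))
  have hle : ∀ i, (⊤ : (Spec (CommRingCat.of (Localization.Away (f (P i))))).Opens) ≤
      (ι' i ≫ g) ⁻¹ᵁ genSet hM (σ i) := fun i y _ => by
    rw [hσ i]
    exact hfV (P i) ((hι i).le ⟨y, rfl⟩)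
  let b : ∀ i, Fin T.card → Localization.Away (f (P i)) := fun i j =>
    (Scheme.ΓSpecIso _).hom ((ι' i ≫ g).appLE _ ⊤ (hle i) (c i j))
  let Qs : ∀ i, PrimeSpectrum (Localization.Away (f (P i))) → Ideal (MvPolynomial (Fin T.card) ℤ) :=
    fun i q => RingHom.ker (cone fun j => Ideal.Quotient.mk q.asIdeal (b i j))
  have hfin : (⋃ i, Set.range (Qs i)).Finite := Set.finite_iUnion fun i =>
    haveI := away_integral (k := k) (f (P i))
    finite_kernels (k := k) (b i)
  have hb1 : ∀ i, b i i = 1 := fun i => by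
    have : c i i = 1 := (TwistLib.genSet_genOn hM (σ i) _ le_rfl).1 (by
      dsimp only
      rw [res_refl, one_smul]
      exact hc i i)
    simp [b, this]
  obtain ⟨d, F, hd, hF, hFQ⟩ := exists_avoid hfin.toFinset
    (fun Q hQ => by
      obtain ⟨i, q, rfl⟩ := Set.mem_iUnion.1 (hfin.mem_toFinset.1 hQ)
      exact RingHom.ker_isPrime _)
    (fun Q hQ G hG e => by
      obtain ⟨i, q, rfl⟩ := Set.mem_iUnion.1 (hfin.mem_toFinset.1 hQ)
      rw [mem_ker_cone_of_homogeneous _ (homogeneousComponent_isHomogeneous e G)]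
      exact (mem_ker_cone_iff _ G).1 hG e)
    (fun Q hQ => by
      obtain ⟨i, q, rfl⟩ := Set.mem_iUnion.1 (hfin.mem_toFinset.1 hQ)
      refine ⟨i, ?_⟩
      haveI : q.asIdeal.IsPrime := PrimeSpectrum.isPrime q
      intro h
      have h' : cone (fun j => Ideal.Quotient.mk q.asIdeal (b i j)) (MvPolynomial.X i) = 0 := h
      rw [cone, eval₂Hom_X'] at h'
      rw [hb1 i, map_one, map_one, one_mul] at h'
      exact Polynomial.X_ne_zero h')
  obtain ⟨τ, hτ, haffτ⟩ := exists_value hM σ hF hd fun i => (hσ i).symm ▸ haff (P i)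
  obtain ⟨φ, -⟩ := exists_powIso hL.1 N d
  obtain ⟨m, hm⟩ := Nat.exists_eq_succ_of_ne_zero (Nat.mul_pos hN hd).ne'
  have hloc : IsLocus hL.1 (m + 1) (genSet (tensorPow_isInvertible hM d) τ) := by
    rw [show m + 1 = N * d from hm.symm]
    exact ⟨φ.hom.app ⊤ τ, genSet_iso _ _ φ τ⟩
  obtain ⟨υ, hυ⟩ := hloc
  refine ⟨m, QCohLib.unitHom _ υ, ?_⟩
  rw [genLocus_unitHom (tensorPow_isInvertible hL.1 (m + 1)) υ, hυ]
  refine ⟨haffτ, fun x hx => ?_, ?_⟩
  · obtain ⟨i, hi⟩ := hτ.le_iSup hM σ hF hd hx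
    rw [hσ i] at hi
    exact hVW _ hi
  rintro _ ⟨p, rfl⟩
  obtain ⟨p₀, hp₀, hp⟩ := Set.mem_iUnion₂.1 (hT (Set.mem_univ p))
  obtain ⟨i, rfl⟩ : ∃ i, P i = p₀ := ⟨T.equivFin ⟨p₀, hp₀⟩, by simp [P]⟩
  obtain ⟨q, rfl⟩ := (hι i).ge hp
  haveI : q.asIdeal.IsPrime := PrimeSpectrum.isPrime q
  have h1 := hFQ _ (hfin.mem_toFinset.2 (Set.mem_iUnion.2 ⟨i, q, rfl⟩))
  rw [mem_ker_cone_of_homogeneous _ hF, ← map_aeval', Ideal.Quotient.eq_zero_iff_mem] at h1
  let ψ : Γ(X, genSet hM (σ i)) →+* Localization.Away (f (P i)) :=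
    ((ι' i ≫ g).appLE _ ⊤ (hle i) ≫ (Scheme.ΓSpecIso _).hom).hom
  have h2 : aeval (b i) F = ψ (aeval (c i) F) := by
    rw [map_aeval']
    rfl
  rw [h2] at h1
  have h3 : q ∈ (Spec _).basicOpen ((ι' i ≫ g).appLE _ ⊤ (hle i) (aeval (c i) F)) := by
    rw [basicOpen_eq_of_affine']
    exact h1
  rw [Scheme.basicOpen_appLE] at h3
  exact ((hτ.genSet_inf hM σ (TwistLib.genSet_genOn hM (σ i)) (hc i)).ge h3.2).1

end IntPtLib
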